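import Groth.Agent.Lib.TorBal.Dim
import Groth.Agent.Lib.WEtaleH7.AbsFlat

/-! Tor dimension ascends along weakly étale algebras. -/

set_option autoImplicit false

universe u

open CategoryTheory CategoryTheory.Limits TensorProduct

namespace Groth.Agent.TorAscH7

/-- Dimension shifting for bounds on the tor dimension. -/
theorem hasTorDimLE_succ_iff {B : Type u} [CommRing B] {K F M : Type u} [AddCommGroup K] [Module B K]
    [AddCommGroup F] [Module B F] [AddCommGroup M] [Module B M] [Module.Flat B F] (i : K →ₗ[B] F)
    (hi : Function.Injective i) (p : F →ₗ[B] M) (hip : Function.Exact i p) (hp : Function.Surjective p) (d : ℕ) :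
    DRing.HasTorDimLE B (d + 1) M ↔ DRing.HasTorDimLE B d K := by
  constructor
  · intro h N _ _ n hn
    obtain ⟨m, rfl⟩ : ∃ m, n = m + 1 := ⟨n - 1, by omega⟩
    haveI := h N (m + 2) (by omega)
    exact ModuleCat.subsingleton_of_isZero
      ((FlatSyz.isZero_tor_shift (N := ModuleCat.of B N) i hi p hip hp m).1 (ModuleCat.isZero_of_subsingleton _))
  · intro h N _ _ n hn
    obtain ⟨m, rfl⟩ : ∃ m, n = m + 2 := ⟨n - 2, by omega⟩
    haveI := h N (m + 1) (by omega)
    exact ModuleCat.subsingleton_of_isZero
      ((FlatSyz.isZero_tor_shift (N := ModuleCat.of B N) i hi p hip hp m).2 (ModuleCat.isZero_of_subsingleton _))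

theorem ascends (A B : Type u) [CommRing A] [CommRing B] [Algebra A B] [Algebra.WeaklyEtale A B] :
    ∀ (d : ℕ) (N : Type u) [AddCommGroup N] [Module B N] [Module A N] [IsScalarTower A B N],
      DRing.HasTorDimLE A d N → DRing.HasTorDimLE B d N := by
  intro d
  induction d with
  | zero =>
    intro N _ _ _ _ h
    haveI := (TorBal.flat_iff_hasTorDimLE_zero N).1 h
    haveI : Module.Flat B N := WEtaleH7.flat_of_flat_lmul A N (Algebra.WeaklyEtale.flat_lmul' A B)
    exact (TorBal.flat_iff_hasTorDimLE_zero N).2 inferInstance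
  | succ d ih =>
    intro N _ _ _ _ h
    let p : (N →₀ B) →ₗ[B] N := Finsupp.linearCombination B id
    have hp : Function.Surjective p := Finsupp.linearCombination_id_surjective B N
    haveI : Module.Flat A (N →₀ B) := Module.Flat.trans A B (N →₀ B)
    let K := LinearMap.ker p
    have hK : DRing.HasTorDimLE A d K := (hasTorDimLE_succ_iff (K.subtype.restrictScalars A) K.injective_subtype
      (p.restrictScalars A) (LinearMap.exact_subtype_ker_map p) hp d).1 h
    exact (hasTorDimLE_succ_iff K.subtype K.injective_subtype p (LinearMap.exact_subtype_ker_map p) hp d).2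
      (ih K hK)

theorem ascends_all (A B : Type u) [CommRing A] [CommRing B] [Algebra A B] [Algebra.WeaklyEtale A B] (d : ℕ)
    (hA : ∀ (M : Type u) [AddCommGroup M] [Module A M], DRing.HasTorDimLE A d M)
    (N : Type u) [AddCommGroup N] [Module B N] : DRing.HasTorDimLE B d N := by
  letI : Module A N := Module.compHom N (algebraMap A B)
  haveI : IsScalarTower A B N := ⟨fun a b n => by
    show (a • b) • n = algebraMap A B a • (b • n)
    rw [Algebra.smul_def, mul_smul]⟩
  exact ascends A B d N (hA N)

end Groth.Agent.TorAscH7
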